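import Mathlib

/-!
The small groups of order 6 and 12 occurring as stabilisers of suborbits of length three.
-/

set_option autoImplicit false
set_option linter.style.haveILetI false

namespace Cfsg.Agent.H19.Cubic

theorem exists_hom_of_index_two {G : Type*} [Group G] (H : Subgroup G) (h : H.index = 2) :
    ∃ ψ : G →* Multiplicative (ZMod 2), ψ.ker = H := by
  classical
  refine ⟨MonoidHom.mk' (fun x => if x ∈ H then 1 else Multiplicative.ofAdd 1) fun x y => ?_, ?_⟩
  · have := Subgroup.mul_mem_iff_of_index_two h (a := x) (b := y)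
    by_cases hx : x ∈ H <;> by_cases hy : y ∈ H <;> simp [hx, hy, this]; decide
  · ext x
    by_cases hx : x ∈ H <;> simp [MonoidHom.mem_ker, hx]

/-- The explicit map `DihedralGroup 6 → S₃ × 2`. -/
def dihedralSixFun : DihedralGroup 6 → Equiv.Perm (Fin 3) × Multiplicative (ZMod 2)
  | .r i => ((finRotate 3) ^ i.val, Multiplicative.ofAdd (i.val : ZMod 2))
  | .sr i => (Equiv.swap 0 1 * (finRotate 3) ^ i.val, Multiplicative.ofAdd (i.val : ZMod 2))

theorem dihedral_six_iso :
    Nonempty (DihedralGroup 6 ≃* Equiv.Perm (Fin 3) × Multiplicative (ZMod 2)) :=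
  ⟨MulEquiv.ofBijective (MonoidHom.mk' dihedralSixFun (by decide +kernel))
    (show Function.Bijective dihedralSixFun by decide +kernel)⟩

theorem card_perm_three : Nat.card (Equiv.Perm (Fin 3)) = 6 := by
  rw [Nat.card_perm, Nat.card_fin]
  rfl

variable {P : Type*} [Group P] [Finite P]

/-- The action on three cosets has image `S₃`. -/
theorem toPermHom_surjective (T : Subgroup P) (hidx : T.index = 3) (hnN : ¬ T.Normal)
    (e : (P ⧸ T) ≃ Fin 3) :
    Function.Surjective (e.permCongrHom.toMonoidHom.comp (MulAction.toPermHom P (P ⧸ T))) := by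
  set f := e.permCongrHom.toMonoidHom.comp (MulAction.toPermHom P (P ⧸ T)) with hf
  have hker : f.ker = T.normalCore := by
    rw [Subgroup.normalCore_eq_ker]
    ext x
    simp [hf, MonoidHom.mem_ker]
  have hidx' : 3 ∣ T.normalCore.index := hidx ▸ Subgroup.index_dvd_of_le T.normalCore_le
  have hle : T.normalCore.index ∣ 6 := by
    rw [← hker, Subgroup.index_ker]
    have := Subgroup.card_subgroup_dvd_card f.range
    rwa [card_perm_three] at this
  have hne : T.normalCore.index ≠ 3 := fun h => by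
    apply hnN
    have heq : T.normalCore = T := by
      refine Subgroup.eq_of_le_of_card_ge T.normalCore_le ?_
      have h1 := T.normalCore.card_mul_index
      have h2 := T.card_mul_index
      rw [h] at h1
      rw [hidx] at h2
      omega
    rw [← heq]; infer_instance
  have h6 : T.normalCore.index = 6 := by
    have := Nat.le_of_dvd (by norm_num) hle
    interval_cases hi : T.normalCore.index <;> omega
  rw [← MonoidHom.range_eq_top]
  refine Subgroup.eq_top_of_card_eq _ ?_
  rw [← Subgroup.index_ker, hker, h6, card_perm_three]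

theorem iso_sym_three (T : Subgroup P) (hidx : T.index = 3) (hnN : ¬ T.Normal)
    (hP : Nat.card P = 6) : Nonempty (P ≃* Equiv.Perm (Fin 3)) := by
  obtain ⟨e⟩ : Nonempty ((P ⧸ T) ≃ Fin 3) :=
    ⟨(Nat.equivFinOfCardPos (show Nat.card (P ⧸ T) ≠ 0 from Nat.card_ne_zero.2 ⟨inferInstance, inferInstance⟩)).trans
      (finCongr hidx)⟩
  refine ⟨MulEquiv.ofBijective _ ((Nat.bijective_iff_surjective_and_card _).2
    ⟨toPermHom_surjective T hidx hnN e, ?_⟩)⟩
  rw [hP, card_perm_three]

theorem iso_dihedral_six (T Q : Subgroup P) (hidx : T.index = 3) (hnN : ¬ T.Normal) (hQT : Q ≤ T)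
    (hQc : Q ≤ Subgroup.center P) (hP : Nat.card P = 12) (hQ : Nat.card Q = 2)
    (hexp : ∀ x ∈ T, x * x = 1) : Nonempty (P ≃* DihedralGroup 6) := by
  classical
  obtain ⟨e⟩ : Nonempty ((P ⧸ T) ≃ Fin 3) :=
    ⟨(Nat.equivFinOfCardPos (show Nat.card (P ⧸ T) ≠ 0 from Nat.card_ne_zero.2 ⟨inferInstance, inferInstance⟩)).trans
      (finCongr hidx)⟩
  set f := e.permCongrHom.toMonoidHom.comp (MulAction.toPermHom P (P ⧸ T)) with hf
  have hsurj := toPermHom_surjective T hidx hnN e
  haveI hQn : Q.Normal := ⟨fun x hx g => by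
    rw [Subgroup.mem_center_iff.1 (hQc hx) g, mul_inv_cancel_right]; exact hx⟩
  have hker : f.ker = Q := by
    have h1 : f.ker = T.normalCore := by
      rw [Subgroup.normalCore_eq_ker]
      ext x
      simp [hf, MonoidHom.mem_ker]
    rw [h1]
    refine (Subgroup.eq_of_le_of_card_ge ((Subgroup.normal_le_normalCore).2 hQT) ?_).symm
    have h2 := T.normalCore.card_mul_index
    rw [← h1, Subgroup.index_ker, MonoidHom.range_eq_top.2 hsurj, Subgroup.card_top,
      card_perm_three, hP, h1] at h2
    rw [hQ]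
    omega
  have hT4 : Nat.card T = 4 := by
    have := T.card_mul_index
    rw [hidx, hP] at this
    omega
  obtain ⟨t, ht, htQ⟩ : ∃ t ∈ T, t ∉ Q := SetLike.not_le_iff_exists.1 fun hle => by
    have := Subgroup.card_dvd_of_le hle
    rw [hT4, hQ] at this
    norm_num at this
  have ht1 : t ≠ 1 := fun h => htQ (h ▸ one_mem Q)
  set M : Subgroup T := Subgroup.zpowers ⟨t, ht⟩ with hM
  have hMc : Nat.card M = 2 := by
    rw [hM, Nat.card_zpowers]
    exact orderOf_eq_prime (by rw [sq]; exact Subtype.ext (hexp t ht)) (fun h => ht1 (congrArg Subtype.val h))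
  have hMi : M.index = 2 := by
    have := M.card_mul_index
    rw [hMc, hT4] at this
    omega
  obtain ⟨ψ, hψ⟩ := exists_hom_of_index_two M hMi
  haveI : T.FiniteIndex := ⟨by omega⟩
  refine ⟨(MulEquiv.ofBijective (f.prod (ψ.transfer)) ((Nat.bijective_iff_injective_and_card _).2
    ⟨(injective_iff_map_eq_one (f.prod ψ.transfer)).2 fun x hx => ?_, ?_⟩)).trans
    dihedral_six_iso.some.symm⟩
  · simp only [MonoidHom.prod_apply, Prod.ext_iff, Prod.fst_one, Prod.snd_one] at hx
    have hxQ : x ∈ Q := hker ▸ hx.1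
    have hc := Subgroup.mem_center_iff.1 (hQc hxQ)
    have hk : ∀ (k : ℕ) (g₀ : P), g₀⁻¹ * x ^ k * g₀ ∈ T → g₀⁻¹ * x ^ k * g₀ = x ^ k := fun k g₀ _ => by
      rw [mul_assoc, ← (Commute.pow_right (hc g₀) k).eq, inv_mul_cancel_left]
    have h2 := hx.2
    rw [MonoidHom.transfer_eq_pow ψ x hk] at h2
    have h3 : x ^ T.index = x := by
      rw [hidx, pow_succ, sq, hexp x (hQT hxQ), one_mul]
    have h4 : (⟨x, hQT hxQ⟩ : T) ∈ M := by
      rw [← hψ, MonoidHom.mem_ker, ← h2]
      apply congrArg ψ
      exact Subtype.ext h3.symm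
    obtain ⟨k, hk⟩ := Subgroup.mem_zpowers_iff.1 h4
    rcases Int.even_or_odd k with ⟨m, rfl⟩ | ⟨m, rfl⟩
    · have := congrArg Subtype.val hk
      simp only [SubgroupClass.coe_zpow] at this
      rw [← this, zpow_add, ← (Commute.refl t).mul_zpow, hexp t ht, one_zpow]
    · exfalso
      apply htQ
      have := congrArg Subtype.val hk
      simp only [SubgroupClass.coe_zpow] at this
      rw [zpow_add, two_mul, zpow_add, ← (Commute.refl t).mul_zpow, hexp t ht, one_zpow, one_mul,
        zpow_one] at this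
      exact this ▸ hxQ
  · rw [Nat.card_prod, hP, card_perm_three, Nat.card_eq_fintype_card, Fintype.card_multiplicative,
      ZMod.card]

end Cfsg.Agent.H19.Cubic
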