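import Cfsg.Agent.H19.Cubic.Swap
import Cfsg.Agent.H19.Cubic.SmallCases

/-!
Point stabilisers of primitive groups with a suborbit of length three.
-/

set_option autoImplicit false
set_option linter.style.haveILetI false

namespace Cfsg.Agent.H19.Cubic

variable {X : Type*} [Group X] [Finite X]

/-- An element of odd order fixing one of three cosets fixes all of them. -/
theorem mem_normalCore_of_odd {P : Type*} [Group P] [Finite P] (T : Subgroup P) (h3 : T.index = 3)
    {x : P} (hx : x ∈ T) (hodd : ¬ 2 ∣ orderOf x) : x ∈ T.normalCore := by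
  rw [Subgroup.normalCore_eq_ker, MonoidHom.mem_ker]
  set σ := MulAction.toPermHom P (P ⧸ T) x with hσ
  obtain ⟨e⟩ : Nonempty ((P ⧸ T) ≃ Fin 3) :=
    ⟨(Nat.equivFinOfCardPos (show Nat.card (P ⧸ T) ≠ 0 from
      Nat.card_ne_zero.2 ⟨inferInstance, inferInstance⟩)).trans (finCongr h3)⟩
  have hfix : e.permCongr σ (e (QuotientGroup.mk 1)) = e (QuotientGroup.mk 1) := by
    have hx' : x • (QuotientGroup.mk 1 : P ⧸ T) = QuotientGroup.mk 1 := by
      rw [MulAction.Quotient.smul_mk, smul_eq_mul, mul_one, QuotientGroup.eq, mul_one]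
      exact inv_mem hx
    rw [Equiv.permCongr_apply, Equiv.symm_apply_apply, hσ, MulAction.toPermHom_apply,
      MulAction.toPerm_apply, hx']
  have hsq : σ ^ 2 = 1 := by
    have key : ∀ (τ : Equiv.Perm (Fin 3)) (i : Fin 3), τ i = i → τ ^ 2 = 1 := by decide +kernel
    have h := key _ _ hfix
    apply e.permCongrHom.injective
    rw [map_pow, map_one]
    exact h
  have hord : σ ^ orderOf x = 1 := by rw [hσ, ← map_pow, pow_orderOf_eq_one, map_one]
  obtain ⟨k, hk⟩ := Nat.odd_iff.2 (Nat.mod_two_ne_zero.1 fun h => hodd (Nat.dvd_of_mod_eq_zero h))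
  rw [hk, pow_succ, pow_mul, hsq, one_pow, one_mul] at hord
  exact hord

/-- The classification, in terms of the two point stabilisers. -/
theorem stabilizer_cases (P : Subgroup X) (g : X)
    (hidx : ((P ⊓ P.map (MulAut.conj g).toMonoidHom).subgroupOf P).index = 3)
    (hgen : P ⊔ P.map (MulAut.conj g).toMonoidHom = ⊤)
    (hcore : ∀ N : Subgroup X, N.Normal → N ≤ P ⊓ P.map (MulAut.conj g).toMonoidHom → N = ⊥) :
    Nonempty (P ≃* Multiplicative (ZMod 3)) ∨ Nonempty (P ≃* Equiv.Perm (Fin 3)) ∨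
      Nonempty (P ≃* DihedralGroup 6) ∨ Nonempty (P ≃* Equiv.Perm (Fin 4)) ∨
      Nonempty (P ≃* Equiv.Perm (Fin 4) × Multiplicative (ZMod 2)) := by
  haveI : Fact (Nat.Prime 2) := ⟨Nat.prime_two⟩
  set Pb := P.map (MulAut.conj g).toMonoidHom with hPb
  set T := P ⊓ Pb with hT
  have hcardb : Nat.card Pb = Nat.card P := Subgroup.card_map_of_injective (MulAut.conj g).injective
  have hTP : T ≤ P := inf_le_left
  have hTb : T ≤ Pb := inf_le_right
  have hcardP : Nat.card P = 3 * Nat.card T := by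
    have h := (T.subgroupOf P).card_mul_index
    rw [hidx, Nat.card_congr (Subgroup.subgroupOfEquivOfLe hTP).toEquiv] at h
    omega
  have hidxb : (T.subgroupOf Pb).index = 3 := by
    have h := (T.subgroupOf Pb).card_mul_index
    rw [Nat.card_congr (Subgroup.subgroupOfEquivOfLe hTb).toEquiv, hcardb, hcardP] at h
    exact Nat.eq_of_mul_eq_mul_left (Nat.card_pos (α := T)) (h.trans (mul_comm _ _))
  -- `T` is a 2-group
  set K : Subgroup X := Subgroup.closure {x | x ∈ T ∧ ¬ 2 ∣ orderOf x} with hK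
  have hKT : K ≤ T := (Subgroup.closure_le _).2 fun x hx => hx.1
  have hnormK : ∀ R : Subgroup X, T ≤ R → (T.subgroupOf R).index = 3 →
      R ≤ Subgroup.normalizer (K : Set X) := by
    intro R hTR hR3
    refine Setup.le_normalizer_of_conj fun p hp x hx => ?_
    induction hx using Subgroup.closure_induction with
    | mem x hx =>
      have hxR : (⟨x, hTR hx.1⟩ : R) ∈ T.subgroupOf R := hx.1
      have h1 := mem_normalCore_of_odd (T.subgroupOf R) hR3 hxR
        (by rw [Subgroup.orderOf_mk]; exact hx.2)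
      have h2 := Subgroup.normalCore_le _
        ((Subgroup.normalCore_normal (T.subgroupOf R)).conj_mem _ h1 ⟨p, hp⟩)
      refine Subgroup.subset_closure ⟨h2, ?_⟩
      rw [show p * x * p⁻¹ = MulAut.conj p x from rfl, MulEquiv.orderOf_eq]
      exact hx.2
    | one => simp
    | mul a b _ _ iha ihb => simpa using mul_mem iha ihb
    | inv a _ iha => simpa [mul_assoc] using inv_mem iha
  have hK0 : K = ⊥ := hcore K (Subgroup.normalizer_eq_top_iff.1 (top_le_iff.1 (hgen ▸
    sup_le (hnormK P hTP hidx) (hnormK Pb hTb hidxb)))) hKT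
  have h2 : IsPGroup 2 T := by
    rw [IsPGroup.iff_orderOf]
    intro x
    set k := (orderOf (x : X)).factorization 2
    refine ⟨k, ?_⟩
    rw [← Subgroup.orderOf_coe]
    have hy : ((x : X) ^ 2 ^ k) ∈ K := by
      refine Subgroup.subset_closure ⟨pow_mem x.2 _, ?_⟩
      rw [orderOf_pow' _ (by positivity)]
      rw [Nat.gcd_eq_right (Nat.ordProj_dvd _ _)]
      exact Nat.not_dvd_ordCompl Nat.prime_two (orderOf_pos _).ne'
    rw [hK0, Subgroup.mem_bot] at hy
    exact Nat.dvd_antisymm (orderOf_dvd_of_pow_eq_one hy) (Nat.ordProj_dvd _ _)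
  -- an element normalising `T` and moving `P` to the other stabiliser
  have hSyl : ∀ R : Subgroup X, T ≤ R → Nat.card R = 3 * Nat.card T → H58.IsSylIn 2 T R := by
    intro R hTR hR
    refine ⟨hTR, ?_⟩
    obtain ⟨k, hk⟩ := IsPGroup.iff_card.1 h2
    rw [hR, hk, Nat.factorization_mul (by norm_num) (by positivity), Finsupp.add_apply,
      Nat.factorization_def 3 Nat.prime_two, padicValNat.eq_zero_of_not_dvd (by norm_num),
      Nat.factorization_pow, Finsupp.smul_apply, Nat.Prime.factorization_self Nat.prime_two]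
    simp
  obtain ⟨h, hh, he⟩ := H58.exists_conj_of_isSylIn
    ((hSyl P hTP hcardP).map_conj g) (hSyl Pb hTb (hcardb.trans hcardP))
  set n := h * g with hn
  have hnP : P.map (MulAut.conj n).toMonoidHom = Pb := by
    rw [hn, ← H58.map_conj_map_conj]
    exact H58.map_conj_eq_self (Subgroup.le_normalizer hh)
  have hnT : n ∈ Subgroup.normalizer (T : Set X) := by
    apply H58.mem_normalizer_of_map_conj_eq
    rw [hn, ← H58.map_conj_map_conj]
    exact he
  have hsw : Swap P T n := ⟨by rw [hnP], hnT, by rw [hnP]; exact hgen, hcore⟩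
  set TP := T.subgroupOf P with hTPdef
  by_cases hTn : TP.Normal
  · -- then `T` is trivial
    have hPn : P ≤ Subgroup.normalizer (T : Set X) :=
      (Subgroup.normal_subgroupOf_iff_le_normalizer hTP).1 hTn
    have hbot := hsw.eq_bot le_rfl hPn hnT
    left
    have hP3 : Nat.card P = 3 := by rw [hcardP, hbot, Subgroup.card_bot]
    haveI : Fact (Nat.Prime 3) := ⟨Nat.prime_three⟩
    haveI : IsCyclic P := isCyclic_of_prime_card hP3
    exact ⟨mulEquivOfCyclicCardEq (by rw [hP3]; simp)⟩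
  right
  set Q := Cfsg.pCoreOf 2 P with hQdef
  set Qc := TP.normalCore with hQc
  have hQT : Q ≤ T := (hSyl P hTP hcardP).pCoreOf_le
  have hQeq : Q = Qc.map P.subtype := by
    haveI : (Q.subgroupOf P).Normal :=
      Subgroup.normal_subgroupOf_of_le_normalizer (H58.le_normalizer_pCoreOf P)
    have hle : Q.subgroupOf P ≤ Qc :=
      Subgroup.normal_le_normalCore.2 (fun y (hy : (y : X) ∈ Q) => hQT hy)
    refine le_antisymm (fun x hx => ⟨⟨x, hTP (hQT hx)⟩, hle hx, rfl⟩) ?_
    · refine Subgroup.map_mono (le_sSup ⟨inferInstance, ?_⟩)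
      exact (h2.of_equiv (Subgroup.subgroupOfEquivOfLe hTP).symm).to_le TP.normalCore_le
  have hTcard : Nat.card T = 2 * Nat.card Q := by
    obtain ⟨e⟩ : Nonempty ((P ⧸ TP) ≃ Fin 3) :=
      ⟨(Nat.equivFinOfCardPos (show Nat.card (P ⧸ TP) ≠ 0 from
        Nat.card_ne_zero.2 ⟨inferInstance, inferInstance⟩)).trans (finCongr hidx)⟩
    have h1 := Qc.card_mul_index
    have hk : Qc = (e.permCongrHom.toMonoidHom.comp (MulAction.toPermHom P (P ⧸ TP))).ker := by
      rw [hQc, Subgroup.normalCore_eq_ker]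
      ext x
      simp [MonoidHom.mem_ker]
    rw [show Qc.index = 6 by
      rw [hk, Subgroup.index_ker, MonoidHom.range_eq_top.2 (toPermHom_surjective TP hidx hTn e),
        Subgroup.card_top, card_perm_three], hcardP] at h1
    rw [hQeq, Subgroup.card_map_of_injective P.subtype_injective]
    omega
  have hTne : T ≠ ⊥ := fun e => by
    rw [e, Subgroup.card_bot] at hTcard; omega
  by_cases hcent : P ⊓ Subgroup.centralizer (Q : Set X) ≤ Q
  · rcases hsw.iso 3 Nat.prime_three (by norm_num) h2 hTne hidx hTcard hcent with h | h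
    · exact Or.inr (Or.inr (Or.inl h))
    · exact Or.inr (Or.inr (Or.inr h))
  -- `Q` is centralised by an element outside `T`
  set C := P ⊓ Subgroup.centralizer (Q : Set X) with hC
  have hCn : P ≤ Subgroup.normalizer (C : Set X) := by
    refine Setup.le_normalizer_of_conj fun p hp x hx => ⟨mul_mem (mul_mem hp hx.1) (P.inv_mem hp), ?_⟩
    intro q hq
    have h1 : (p⁻¹ * q * p⁻¹⁻¹) * x = x * (p⁻¹ * q * p⁻¹⁻¹) :=
      hx.2 _ (Setup.conj_mem_of_le_normalizer (H58.le_normalizer_pCoreOf P) (inv_mem hp) hq)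
    calc q * (p * x * p⁻¹) = p * ((p⁻¹ * q * p⁻¹⁻¹) * x) * p⁻¹ := by group
      _ = p * (x * (p⁻¹ * q * p⁻¹⁻¹)) * p⁻¹ := by rw [h1]
      _ = p * x * p⁻¹ * q := by group
  obtain ⟨d, hd, hdT⟩ : ∃ d ∈ C, d ∉ T := SetLike.not_le_iff_exists.1 fun hle =>
    hcent (H58.le_pCoreOf inf_le_left (h2.to_le hle) hCn)
  -- `P` is generated by `T` and `d`
  have hgenP : ∀ H : Subgroup X, T ≤ H → d ∈ H → P ≤ H := by
    intro H hTH hdH
    have hle : T ≤ H ⊓ P := le_inf hTH hTP
    have hmul : (T.subgroupOf (H ⊓ P)).index * ((H ⊓ P).subgroupOf P).index = 3 := by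
      rw [← hidx]; exact Subgroup.relIndex_mul_relIndex T (H ⊓ P) P hle inf_le_right
    rcases Nat.prime_three.eq_one_or_self_of_dvd _ ⟨_, hmul.symm⟩ with h | h
    · exact absurd ((Subgroup.subgroupOf_eq_top.1 (Subgroup.index_eq_one.1 h)) ⟨hdH, hd.1⟩) hdT
    · rw [h] at hmul
      have h' : ((H ⊓ P).subgroupOf P).index = 1 := by omega
      exact (Subgroup.subgroupOf_eq_top.1 (Subgroup.index_eq_one.1 h')).trans inf_le_left
  have hcomm : ∀ q ∈ Q, (∀ t ∈ T, t * q = q * t) → ∀ p ∈ P, p * q = q * p := by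
    intro q hq ht p hp
    refine Subgroup.mem_centralizer_singleton_iff.1 (hgenP (Subgroup.centralizer ({q} : Set X))
      (fun t htT => Subgroup.mem_centralizer_singleton_iff.2 (ht t htT))
      (Subgroup.mem_centralizer_singleton_iff.2 (hd.2 q hq).symm) hp)
  -- a central involution outside `Q`
  obtain ⟨z, u, hz, hz2, hzc, hu, hne⟩ := hsw.noncentral h2 hTne
  have hzQ : z ∉ Q := fun hzQ => hne (hcomm z hzQ hzc u hu)
  have hQ2 : (Q.subgroupOf T).index = 2 := by
    have h1 := (Q.subgroupOf T).card_mul_index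
    rw [Nat.card_congr (Subgroup.subgroupOfEquivOfLe hQT).toEquiv, hTcard] at h1
    exact Nat.eq_of_mul_eq_mul_left (Nat.card_pos (α := Q)) (h1.trans (mul_comm _ _))
  have htwo : ∀ x ∈ T, ∀ y ∈ T, x ∉ Q → y ∉ Q → x * y ∈ Q := fun x hx y hy hx' hy' =>
    (Subgroup.mul_mem_iff_of_index_two hQ2 (a := ⟨x, hx⟩) (b := ⟨y, hy⟩)).2
      (iff_of_false hx' hy')
  have hsq : ∀ x ∈ T, ∃ y ∈ Q, y * y = x * x := by
    intro x hx
    by_cases hxQ : x ∈ Q
    · exact ⟨x, hxQ, rfl⟩
    refine ⟨x * z, htwo x hx z hz hxQ hzQ, ?_⟩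
    calc x * z * (x * z) = x * (z * x) * z := by group
      _ = x * x * (z * z) := by rw [← hzc x hx]; group
      _ = x * x := by rw [hz2, mul_one]
  set W : Subgroup X := Subgroup.closure {y | ∃ x ∈ T, y = x * x} with hW
  have hconjW : ∀ v : X, (∀ x ∈ T, ∃ y ∈ T, y * y = v * (x * x) * v⁻¹) → ∀ a ∈ W, v * a * v⁻¹ ∈ W := by
    intro v hv a ha
    induction ha using Subgroup.closure_induction with
    | mem y hy =>
      obtain ⟨x, hx, rfl⟩ := hy
      obtain ⟨y, hy, e⟩ := hv x hx
      exact Subgroup.subset_closure ⟨y, hy, e.symm⟩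
    | one => simp
    | mul a b _ _ iha ihb => simpa using mul_mem iha ihb
    | inv a _ iha => simpa [mul_assoc] using inv_mem iha
  have hW0 : W = ⊥ := by
    refine hsw.eq_bot ((Subgroup.closure_le _).2 ?_) ?_ ?_
    · rintro y ⟨x, hx, rfl⟩
      exact mul_mem hx hx
    · refine Setup.le_normalizer_of_conj fun p hp => hconjW p fun x hx => ?_
      obtain ⟨y, hy, e⟩ := hsq x hx
      exact ⟨p * y * p⁻¹, hQT (Setup.conj_mem_of_le_normalizer (H58.le_normalizer_pCoreOf P) hp hy),
        by rw [← e]; group⟩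
    · refine Subgroup.mem_normalizer_iff.2 fun a => ⟨hconjW n (fun x hx => ?_) a, fun ha => ?_⟩
      · exact ⟨n * x * n⁻¹, (Subgroup.mem_normalizer_iff.1 hnT x).1 hx, by group⟩
      · have := hconjW n⁻¹ (fun x hx => ⟨n⁻¹ * x * n⁻¹⁻¹,
          (Subgroup.mem_normalizer_iff.1 (inv_mem hnT) x).1 hx, by group⟩) _ ha
        simpa [mul_assoc] using this
  have hexp : ∀ x ∈ T, x * x = 1 := fun x hx => by
    have : x * x ∈ W := Subgroup.subset_closure ⟨x, hx, rfl⟩
    rwa [hW0, Subgroup.mem_bot] at this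
  have hab : ∀ x ∈ T, ∀ y ∈ T, x * y = y * x := fun x hx y hy => by
    calc x * y = (x * y)⁻¹ := (inv_eq_of_mul_eq_one_right (hexp _ (mul_mem hx hy))).symm
      _ = y * x := by
        rw [mul_inv_rev, inv_eq_of_mul_eq_one_right (hexp x hx),
          inv_eq_of_mul_eq_one_right (hexp y hy)]
  have hcQ : ∀ q ∈ Q, ∀ p ∈ P, p * q = q * p := fun q hq =>
    hcomm q hq fun t ht => hab t ht q (hQT hq)
  set Q' := Q.map (MulAut.conj n).toMonoidHom with hQ'
  have hQ'T : Q' ≤ T := (Subgroup.map_mono hQT).trans (map_conj_eq_self_of_mem hnT).le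
  have hint : Q ⊓ Q' = ⊥ := by
    refine hcore _ (Subgroup.normalizer_eq_top_iff.1 (top_le_iff.1 (hgen ▸ sup_le ?_ ?_)))
      (inf_le_left.trans hQT)
    · refine Setup.le_normalizer_of_conj fun p hp x hx => ?_
      rw [hcQ x hx.1 p hp, mul_inv_cancel_right]; exact hx
    · rw [← hnP]
      refine Setup.le_normalizer_of_conj fun p hp x hx => ?_
      obtain ⟨p, hp', rfl⟩ := hp
      obtain ⟨q, hq, rfl⟩ := hx.2
      rw [← map_mul, hcQ q hq p hp', map_mul, mul_inv_cancel_right]; exact hx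
  have hQ'2 : (Q'.subgroupOf T).index = 2 := by
    have h1 := (Q'.subgroupOf T).card_mul_index
    rw [Nat.card_congr (Subgroup.subgroupOfEquivOfLe hQ'T).toEquiv, hTcard, hQ',
      Subgroup.card_map_of_injective (MulAut.conj n).injective] at h1
    exact Nat.eq_of_mul_eq_mul_left (Nat.card_pos (α := Q)) (h1.trans (mul_comm _ _))
  have hQle : Nat.card Q ≤ 2 := by
    by_contra hlt
    push Not at hlt
    haveI : Nontrivial Q := Finite.one_lt_card_iff_nontrivial.1 (by omega)
    obtain ⟨a, ha1⟩ := exists_ne (1 : Q)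
    have hall : ∀ b : Q, b = 1 ∨ b = a := by
      intro b
      by_cases hb : b = 1
      · exact Or.inl hb
      · right
        have hn1 : ∀ c : Q, c ≠ 1 → (c : X) ∉ Q' := fun c hc hcQ' => hc (Subtype.ext (by
          have : (c : X) ∈ Q ⊓ Q' := ⟨c.2, hcQ'⟩
          rwa [hint, Subgroup.mem_bot] at this))
        have h1 : (a : X) * b ∈ Q' :=
          (Subgroup.mul_mem_iff_of_index_two hQ'2 (a := ⟨a, hQT a.2⟩) (b := ⟨b, hQT b.2⟩)).2
            (iff_of_false (hn1 a ha1) (hn1 b hb))
        have h2 : (a : X) * b ∈ Q ⊓ Q' := ⟨mul_mem a.2 b.2, h1⟩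
        rw [hint, Subgroup.mem_bot] at h2
        apply Subtype.ext
        rw [← inv_eq_of_mul_eq_one_right h2, inv_eq_of_mul_eq_one_right (hexp _ (hQT a.2))]
    have : Nat.card Q ≤ Nat.card (Fin 2) := Nat.card_le_card_of_surjective
      (fun i : Fin 2 => if i = 0 then (1 : Q) else a) fun b => by
        rcases hall b with rfl | rfl
        · exact ⟨0, rfl⟩
        · exact ⟨1, rfl⟩
    rw [Nat.card_fin] at this
    omega
  rcases (show Nat.card Q = 1 ∨ Nat.card Q = 2 by
    have := Nat.card_pos (α := Q); omega) with hQ1 | hQ1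
  · exact Or.inl (iso_sym_three TP hidx hTn (by rw [hcardP, hTcard, hQ1]))
  · refine Or.inr (Or.inl (iso_dihedral_six TP (Q.subgroupOf P) hidx hTn (fun x hx => hQT hx)
      (fun x hx => Subgroup.mem_center_iff.2 fun k => Subtype.ext (hcQ _ hx k k.2))
      (by rw [hcardP, hTcard, hQ1]) ?_ (fun x hx => Subtype.ext (hexp x hx))))
    rw [Nat.card_congr (Subgroup.subgroupOfEquivOfLe (hQT.trans hTP)).toEquiv, hQ1]

theorem primitive_cases {G Ω : Type*} [Group G] [Finite G] [MulAction G Ω] [FaithfulSMul G Ω]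
    (hprim : MulAction.IsPreprimitive G Ω) (a b : Ω)
    (h3 : Nat.card (MulAction.orbit (MulAction.stabilizer G a) b) = 3) :
    Nonempty (MulAction.stabilizer G a ≃* Multiplicative (ZMod 3)) ∨
      Nonempty (MulAction.stabilizer G a ≃* Equiv.Perm (Fin 3)) ∨
      Nonempty (MulAction.stabilizer G a ≃* DihedralGroup 6) ∨
      Nonempty (MulAction.stabilizer G a ≃* Equiv.Perm (Fin 4)) ∨
      Nonempty (MulAction.stabilizer G a ≃* Equiv.Perm (Fin 4) × Multiplicative (ZMod 2)) := by
  haveI := hprim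
  obtain ⟨g, rfl⟩ := MulAction.exists_smul_eq G a b
  have hsing : ¬ MulAction.stabilizer G a ≤ MulAction.stabilizer G (g • a) := fun hle => by
    have : MulAction.orbit (MulAction.stabilizer G a) (g • a) = {g • a} := by
      ext y
      constructor
      · rintro ⟨k, rfl⟩
        exact hle k.2
      · rintro rfl
        exact MulAction.mem_orbit_self _
    rw [this] at h3
    simp at h3
  haveI : Nontrivial Ω := ⟨a, g • a, fun e => hsing (by rw [← e])⟩
  have hPb := stabilizer_smul_eq g a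
  refine stabilizer_cases _ g ?_ ?_ ?_
  · rw [← hPb]
    have hstab : MulAction.stabilizer (MulAction.stabilizer G a) (g • a) =
        (MulAction.stabilizer G a ⊓ MulAction.stabilizer G (g • a)).subgroupOf
          (MulAction.stabilizer G a) := by
      ext k
      simp [Subgroup.mem_subgroupOf, MulAction.mem_stabilizer_iff, Subgroup.smul_def]
    rw [← hstab, MulAction.index_stabilizer, ← Nat.card_coe_set_eq, h3]
  · rw [← hPb]
    have hco : IsCoatom (MulAction.stabilizer G a) :=
      MulAction.IsPreprimitive.isCoatom_stabilizer_of_isPreprimitive (G := G) a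
    rcases hco.le_iff.1 (le_sup_left : MulAction.stabilizer G a ≤
      MulAction.stabilizer G a ⊔ MulAction.stabilizer G (g • a)) with h | h
    · exact h
    · exfalso
      apply hsing
      refine (Subgroup.eq_of_le_of_card_ge (le_sup_right.trans h.le) ?_).ge
      rw [stabilizer_smul_eq]
      exact (Subgroup.card_map_of_injective (f := (MulAut.conj g).toMonoidHom)
        (MulAut.conj g).injective).ge
  · intro N hNn hN
    refine (Subgroup.eq_bot_iff_forall _).2 fun x hx => eq_of_smul_eq_smul fun ω : Ω => ?_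
    obtain ⟨k, rfl⟩ := MulAction.exists_smul_eq G a ω
    have h1 := (hN (hNn.conj_mem x hx k⁻¹)).1
    replace h1 : (k⁻¹ * x * k⁻¹⁻¹) • a = a := h1
    rw [inv_inv, mul_smul, mul_smul, inv_smul_eq_iff] at h1
    rw [one_smul]
    exact h1

end Cfsg.Agent.H19.Cubic
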