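import Cfsg.Agent.H19.Cubic.Sides

/-!
Two conjugate subgroups sharing a Sylow 2-subgroup: stabilisers of suborbits of length three and
the local form of the theorem of Sims.
-/

set_option autoImplicit false
set_option linter.style.haveILetI false

namespace Cfsg.Agent.H19.Cubic

variable {X : Type*} [Group X]

theorem Loc.congr {A B B' : Subgroup X} (h : Loc A B) (e : A ⊓ B' = A ⊓ B) : Loc A B' := by
  refine ⟨h.fin, ?_, ?_, ?_, ?_, ?_, ?_, h.selfCent, ?_⟩ <;> try rw [e]
  · intro x hx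
    exact (e.ge (Subgroup.mem_inf.2 ⟨H58.pCoreOf_le A hx, h.Q_le hx⟩)).2
  · exact h.Q_index
  · exact h.Q_two
  · exact h.max
  · exact h.two
  · exact h.selfNorm
  · exact h.noncentral

theorem map_conj_eq_self_of_mem {T : Subgroup X} {n : X}
    (hn : n ∈ Subgroup.normalizer (T : Set X)) : T.map (MulAut.conj n).toMonoidHom = T :=
  H58.map_conj_eq_self hn

/-- The standing hypotheses: `P` and `P ^ n` generate and meet in `T`, which `n` normalises. -/
structure Swap (P T : Subgroup X) (n : X) : Prop where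
  inf_eq : P ⊓ P.map (MulAut.conj n).toMonoidHom = T
  hn : n ∈ Subgroup.normalizer (T : Set X)
  gen : P ⊔ P.map (MulAut.conj n).toMonoidHom = ⊤
  core : ∀ N : Subgroup X, N.Normal → N ≤ T → N = ⊥

theorem Swap.le {P T : Subgroup X} {n : X} (h : Swap P T n) : T ≤ P := h.inf_eq ▸ inf_le_left

/-- A subgroup of `T` normalised by `P` and by `n` is trivial. -/
theorem Swap.eq_bot {P T : Subgroup X} {n : X} (h : Swap P T n) {N : Subgroup X} (hN : N ≤ T)
    (hP : P ≤ Subgroup.normalizer (N : Set X)) (hn : n ∈ Subgroup.normalizer (N : Set X)) :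
    N = ⊥ := by
  refine h.core N (Subgroup.normalizer_eq_top_iff.1 (top_le_iff.1 (h.gen ▸ sup_le hP ?_))) hN
  rintro _ ⟨a, ha, rfl⟩
  exact mul_mem (mul_mem hn (hP ha)) (inv_mem hn)

/-- The involutions in the centre of `T` are not central in `P`. -/
theorem Swap.noncentral {P T : Subgroup X} {n : X} (h : Swap P T n) [Finite T]
    (hT : IsPGroup 2 T) (hTne : T ≠ ⊥) :
    ∃ z g : X, z ∈ T ∧ z * z = 1 ∧ (∀ t ∈ T, t * z = z * t) ∧ g ∈ P ∧ g * z ≠ z * g := by
  haveI : Fact (Nat.Prime 2) := ⟨Nat.prime_two⟩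
  by_contra hno
  push Not at hno
  -- the subgroup of all central involutions
  set W : Subgroup X :=
    Subgroup.closure {z | z ∈ T ∧ z * z = 1 ∧ ∀ t ∈ T, t * z = z * t} with hW
  have hWT : W ≤ T := (Subgroup.closure_le _).2 fun z hz => hz.1
  have hP : P ≤ Subgroup.normalizer (W : Set X) := by
    refine Setup.le_normalizer_of_conj fun g hg x hx => ?_
    suffices g * x = x * g by rw [this, mul_inv_cancel_right]; exact hx
    have hle : W ≤ Subgroup.centralizer ({g} : Set X) := by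
      refine (Subgroup.closure_le _).2 ?_
      rintro z ⟨hz, hz2, hzc⟩
      exact Subgroup.mem_centralizer_singleton_iff.2 (hno z g hz hz2 hzc hg).symm
    have := hle hx
    exact (Subgroup.mem_centralizer_singleton_iff.1 this).symm
  have hn : n ∈ Subgroup.normalizer (W : Set X) := by
    apply H58.mem_normalizer_of_map_conj_eq
    rw [hW, MonoidHom.map_closure]
    congr 1
    ext z
    constructor
    · rintro ⟨a, ⟨ha, ha2, hac⟩, rfl⟩
      refine ⟨(Subgroup.mem_normalizer_iff.1 h.hn a).1 ha, ?_, fun t ht => ?_⟩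
      · rw [← map_mul, ha2, map_one]
      · obtain ⟨s, hs, rfl⟩ := (map_conj_eq_self_of_mem h.hn).ge ht
        rw [← map_mul, hac s hs, map_mul]
    · rintro ⟨hz, hz2, hzc⟩
      obtain ⟨a, ha, rfl⟩ := (map_conj_eq_self_of_mem h.hn).ge hz
      refine ⟨a, ⟨ha, (MulAut.conj n).injective ?_, fun t ht => (MulAut.conj n).injective ?_⟩, rfl⟩
      · rw [map_mul, map_one]; exact hz2
      · rw [map_mul, map_mul]; exact hzc _ ((Subgroup.mem_normalizer_iff.1 h.hn t).1 ht)
  haveI : Nontrivial T := (Subgroup.nontrivial_iff_ne_bot T).2 hTne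
  haveI := hT.center_nontrivial
  obtain ⟨k, hk⟩ := IsPGroup.iff_card.1 (hT.to_subgroup (Subgroup.center T))
  have hk1 : k ≠ 0 := fun e => by
    rw [e, pow_zero] at hk
    exact absurd hk (Finite.one_lt_card).ne'
  obtain ⟨z, hz⟩ := exists_prime_orderOf_dvd_card' (G := Subgroup.center T) 2 (hk ▸ dvd_pow_self 2 hk1)
  have hzW : ((z : T) : X) ∈ W := by
    refine Subgroup.subset_closure ⟨(z : T).2, ?_, fun t ht => ?_⟩
    · have h2 : z ^ 2 = 1 := hz ▸ pow_orderOf_eq_one z
      rw [sq] at h2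
      exact congrArg (fun y : Subgroup.center T => ((y : T) : X)) h2
    · exact congrArg Subtype.val (Subgroup.mem_center_iff.1 z.2 ⟨t, ht⟩)
  rw [h.eq_bot hWT hP hn, Subgroup.mem_bot] at hzW
  have : z = 1 := Subtype.ext (Subtype.ext hzW)
  rw [this, orderOf_one] at hz
  omega

/-- With characteristic two on one side, both sides are `S₄` or `S₄ × 2`. -/
theorem Swap.iso {P T : Subgroup X} {n : X} (h : Swap P T n) [Finite P] (q : ℕ) (hq : q.Prime)
    (hq2 : q ≠ 2) (hT : IsPGroup 2 T) (hTne : T ≠ ⊥) (hindex : (T.subgroupOf P).index = q)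
    (hQ : Nat.card T = 2 * Nat.card (Cfsg.pCoreOf 2 P))
    (hcent : P ⊓ Subgroup.centralizer (Cfsg.pCoreOf 2 P : Set X) ≤ Cfsg.pCoreOf 2 P) :
    Nonempty (P ≃* Equiv.Perm (Fin 4)) ∨
      Nonempty (P ≃* Equiv.Perm (Fin 4) × Multiplicative (ZMod 2)) := by
  haveI : Finite T := Finite.of_injective _ (Subgroup.inclusion_injective h.le)
  have L₁ : Loc P (P.map (MulAut.conj n).toMonoidHom) :=
    Loc.of_index q hq hq2 (by rw [h.inf_eq]; exact hT) (by rw [h.inf_eq]; exact hindex)
      (by rw [h.inf_eq]; exact hQ) hcent (by rw [h.inf_eq]; exact h.noncentral hT hTne)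
  have e : P ⊓ P.map (MulAut.conj n⁻¹).toMonoidHom = P ⊓ P.map (MulAut.conj n).toMonoidHom := by
    have h1 := congrArg (Subgroup.map (MulAut.conj n⁻¹).toMonoidHom) h.inf_eq
    rw [map_conj_eq_self_of_mem (inv_mem h.hn),
      Subgroup.map_inf _ _ _ (MulAut.conj n⁻¹).injective, H58.map_conj_map_conj,
      inv_mul_cancel] at h1
    rw [h.inf_eq]
    conv_rhs => rw [← h1]
    rw [inf_comm]
    congr 1
    ext x
    rw [H58.mem_map_conj]; simp
  have L₂ := (L₁.congr e).map n
  rw [H58.map_conj_map_conj, mul_inv_cancel] at L₂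
  have e1 : P.map (MulAut.conj (1 : X)).toMonoidHom = P := by
    ext x; rw [H58.mem_map_conj]; simp
  rw [e1] at L₂
  rcases pair_classification L₁ L₂ (fun N hN h1 h2 => h.core N
      (Subgroup.normalizer_eq_top_iff.1 (top_le_iff.1 (h.gen ▸ sup_le h1 h2)))
      (h.inf_eq ▸ hN)) with ⟨a, -⟩ | ⟨a, -⟩
  · exact Or.inl a
  · exact Or.inr a

end Cfsg.Agent.H19.Cubic
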